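import Groth.Agent.Lib.Birat.LqfSep
import Mathlib.AlgebraicGeometry.Morphisms.Finite

/-!
# Finite birational morphisms are isomorphisms over normal integral opens
-/

set_option autoImplicit false
set_option linter.all false
set_option backward.isDefEq.respectTransparency false

universe u

open CategoryTheory AlgebraicGeometry TopologicalSpace

noncomputable section

namespace GrothLib.TFNorm9

variable {X Y : Scheme.{u}} (π : Y ⟶ X)

theorem isIso_restrict_of_le {U V : X.Opens} (h : V ≤ U) [IsIso (π ∣_ U)] : IsIso (π ∣_ V) := by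
  have e : U.ι ''ᵁ (U.ι ⁻¹ᵁ V) = V := by
    rw [Scheme.Hom.image_preimage_eq_opensRange_inf, Scheme.Opens.opensRange_ι, inf_eq_right.mpr h]
  have := ((MorphismProperty.isomorphisms Scheme.{u}).arrow_mk_iso_iff
    (morphismRestrictRestrict π U (U.ι ⁻¹ᵁ V))).mp (show IsIso _ by infer_instance)
  rwa [e] at this

/-- A finite birational morphism is an isomorphism over an integral normal open. -/
theorem isIso_restrict_of_normal [IsFinite π] [AlgebraicGeometry.IsReduced Y] (U : X.Opens) [IsIso (π ∣_ U)]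
    (hU : Dense (U : Set X)) (hU' : Dense ((π ⁻¹ᵁ U : Y.Opens) : Set Y)) (V : X.Opens)
    [IsIntegral (V : Scheme.{u})] (hN : ∀ x ∈ V, IsIntegrallyClosed (X.presheaf.stalk x)) :
    IsIso (π ∣_ V) := by
  let g := π ∣_ V
  let W : (V : Scheme.{u}).Opens := V.ι ⁻¹ᵁ U
  obtain ⟨x₀, hx₀⟩ := (inferInstance : Nonempty (V : Scheme.{u}))
  obtain ⟨x₁, hx₁V, hx₁U⟩ := hU.inter_open_nonempty (V : Set X) V.2 ⟨_, (⟨x₀, hx₀⟩ : (V : Scheme.{u})).2⟩
  have hWne : Nonempty (W : Scheme.{u}) := ⟨⟨⟨x₁, hx₁V⟩, hx₁U⟩⟩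
  haveI : IsFinite g := inferInstance
  haveI hgW : IsIso (g ∣_ W) := by
    refine ((MorphismProperty.isomorphisms Scheme.{u}).arrow_mk_iso_iff (morphismRestrictRestrict π V W)).mpr ?_
    exact isIso_restrict_of_le π (U := U) (by
      rintro _ ⟨z, hz, rfl⟩
      exact hz)
  let Y' := (π ⁻¹ᵁ V : Y.Opens)
  have hdense : Dense ((g ⁻¹ᵁ W : (Y' : Scheme.{u}).Opens) : Set Y') := by
    have : (g ⁻¹ᵁ W : (Y' : Scheme.{u}).Opens) = Y'.ι ⁻¹ᵁ (π ⁻¹ᵁ U) := by
      rw [← Scheme.Hom.comp_preimage, ← Scheme.Hom.comp_preimage, morphismRestrict_ι]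
    rw [this]
    exact hU'.preimage Y'.2.isOpenMap_subtype_val
  haveI : IrreducibleSpace (g ⁻¹ᵁ W : Scheme.{u}) :=
    haveI : IrreducibleSpace (W : Scheme.{u}) :=
      { toPreirreducibleSpace := Subtype.preirreducibleSpace
          ((PreirreducibleSpace.isPreirreducible_univ).open_subset W.2 (Set.subset_univ _)),
        toNonempty := hWne }
    let φ := (asIso (g ∣_ W)).hom.homeomorph.symm
    { toPreirreducibleSpace := ⟨by
              have := (PreirreducibleSpace.isPreirreducible_univ (X := (W : Scheme.{u}))).image φ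
                φ.continuous.continuousOn
              rwa [Set.image_univ, φ.surjective.range_eq] at this⟩,
            toNonempty := ⟨φ ⟨_, hWne.some.2⟩⟩ }
  haveI : IrreducibleSpace (Y' : Scheme.{u}) := by
    have h1 : IsIrreducible (Set.range ((g ⁻¹ᵁ W : (Y' : Scheme.{u}).Opens).ι)) := by
      rw [← Set.image_univ]
      exact (IrreducibleSpace.isIrreducible_univ _).image _ (Scheme.Hom.continuous _).continuousOn
    have h2 := h1.closure
    rw [Scheme.Opens.range_ι, hdense.closure_eq] at h2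
    exact { toPreirreducibleSpace := ⟨h2.2⟩, toNonempty := ⟨h2.1.choose⟩ }
  haveI : AlgebraicGeometry.IsReduced (Y' : Scheme.{u}) := isReduced_of_isOpenImmersion Y'.ι
  haveI : IsIntegral (Y' : Scheme.{u}) := isIntegral_of_irreducibleSpace_of_isReduced _
  have hηW : genericPoint (Y' : Scheme.{u}) ∈ g ⁻¹ᵁ W := by
    obtain ⟨y⟩ := (inferInstance : Nonempty (g ⁻¹ᵁ W : Scheme.{u}))
    exact ((genericPoint_spec (Y' : Scheme.{u})).mem_open_set_iff (g ⁻¹ᵁ W).2).2 ⟨y.1, trivial, y.2⟩
  have he : g (genericPoint (Y' : Scheme.{u})) = genericPoint (V : Scheme.{u}) := by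
    have hsub : (W : Set V) ⊆ closure {g (genericPoint (Y' : Scheme.{u}))} := by
      intro w hw
      obtain ⟨y, hy⟩ := (asIso (g ∣_ W)).hom.homeomorph.surjective ⟨w, hw⟩
      have hgy : g y.1 = w := by
        have := congrArg Subtype.val hy
        rwa [show (((asIso (g ∣_ W)).hom.homeomorph y) : W).1 = g y.1 from morphismRestrict_base_coe g W y] at this
      rw [← hgy]
      exact ((genericPoint_specializes y.1).map g.continuous).mem_closure
    have hd : Dense (W : Set V) := W.2.dense ⟨_, hWne.some.2⟩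
    refine ((genericPoint_spec (V : Scheme.{u})).eq ?_).symm
    exact Set.eq_univ_of_univ_subset (hd.closure_eq ▸ closure_minimal hsub isClosed_closure)
  have hb : Function.Bijective (g.stalkMap (genericPoint (Y' : Scheme.{u}))).hom := by
    have hiso : IsIso (g.stalkMap (genericPoint (Y' : Scheme.{u}))) :=
      ((MorphismProperty.isomorphisms CommRingCat.{u}).arrow_mk_iso_iff
        (morphismRestrictStalkMap g W ⟨_, hηW⟩)).mp (show IsIso _ by infer_instance)
    exact ConcreteCategory.bijective_of_isIso _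
  exact Birat.isIso_of_finite_birational g he hb fun v => by
    haveI := hN v.1 v.2
    exact IsIntegrallyClosed.of_equiv (V.stalkIso v).commRingCatIsoToRingEquiv.symm

end GrothLib.TFNorm9
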