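import Groth.Agent.Lib.TFNorm9.Torsion
import Groth.Agent.Lib.TFNorm9.IsoRestrict
import Groth.Agent.Lib.NormFlat11.Nodal
import Groth.Agent.Lib.ModDesc.Approx
import Groth.Agent.Lib.ASBun21.PushFree
import Groth.Agent.Lib.AlgSp.Dim
import Groth.Agent.Lib.CurveLocus.Basic
import Groth.Agent.Lib.NodeEt.FieldExtBC
import Groth.Agent.Lib.QCoh.SupportExact
import Groth.Prelude.Def_ShStab

/-!
# A pure module on a nodal curve inside the direct image of a bundle from the normalisation
-/

set_option autoImplicit false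
set_option linter.all false
set_option backward.isDefEq.respectTransparency false

universe u

open CategoryTheory CategoryTheory.Limits Opposite AlgebraicGeometry TopologicalSpace
open GrothLib.QCoh (stalkLin)

noncomputable section

namespace GrothLib.TFNorm9

variable {X Y : Scheme.{u}}

theorem dim_support_le_zero {M : X.Modules} (hM : Coh.IsCoh M)
    (h : ∀ x ∈ CohB1.support M, IsClosed ({x} : Set X)) : topologicalKrullDim (CohB1.support M) ≤ 0 := by
  refine Order.krullDim_nonpos_iff_forall_isMax.2 fun a b hab => ?_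
  haveI : QuasiSober (CohB1.support M) :=
    (QCoh.isClosed_support_of_isCoh hM).isClosedEmbedding_subtypeVal.quasiSober
  obtain ⟨η, hη⟩ := QuasiSober.sober b.2 b.3
  obtain ⟨x, hx⟩ := a.2.nonempty
  intro y hy
  have hcl : IsClosed ({η} : Set (CohB1.support M)) := by
    have := (h η.1 η.2).preimage (continuous_subtype_val (p := fun t => t ∈ CohB1.support M))
    convert this using 1
    ext t
    simp [Subtype.ext_iff]
  have hb : (b : Set (CohB1.support M)) = {η} := hη.def.symm.trans hcl.closure_eq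
  have hy' : y = η := hb.le hy
  have hx' : x = η := hb.le (hab hx)
  exact hy' ▸ hx' ▸ hx

/-- The stalkwise construction behind the statement. -/
theorem exists_mono_pushforward [IsLocallyNoetherian X] [IsNoetherian X] [AlgebraicGeometry.IsReduced X]
    (hdim : topologicalKrullDim X ≤ 1) (π : Y ⟶ X) [IsFinite π] (hY : Pi1.IsNormalScheme Y)
    (U : X.Opens) [IsIso (π ∣_ U)] (hU : Dense (U : Set X)) (hU' : Dense ((π ⁻¹ᵁ U : Y.Opens) : Set Y))
    (N : Set X) (hN : ∀ x : X, IsClosed ({x} : Set X) → x ∉ N →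
      ∃ V : X.Opens, x ∈ V ∧ IsIntegral (V : Scheme.{u}) ∧ ∀ z ∈ V, IsIntegrallyClosed (X.presheaf.stalk z))
    (hNcl : ∀ x ∈ N, IsClosed ({x} : Set X))
    (F : X.Modules) (hF : Coh.IsCoh F) (hpure : ShStab.IsPure X F 1) :
    ∃ (F' : Y.Modules) (f : F ⟶ (Scheme.Modules.pushforward π).obj F'),
      Coh.IsCoh F' ∧ FlatMod.IsFinLocFree F' ∧ Mono f ∧ CohB1.support (cokernel f) ⊆ N := by
  haveI := hF.1
  haveI : IsLocallyNoetherian Y := LocallyOfFiniteType.isLocallyNoetherian π
  haveI : AlgebraicGeometry.IsReduced Y := isReduced_of_isDomain_stalk fun y => (hY y).1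
  let G := (Scheme.Modules.pullback π).obj F
  have hG : Coh.IsCoh G := ModDesc.isCoh_pullback π F hF
  haveI := hG.1
  let D : Y.Opens := sSup {D : Y.Opens | ∃ (n : ℕ) (e : Fin n → Γ(G, D)), FinCov.IsFrame G D e}
  have hD : ∀ z ∈ D, ∃ n : ℕ, Nonempty (Module.Basis (Fin n) (Y.presheaf.stalk z) (G.presheaf.stalk z)) := by
    intro z hz
    obtain ⟨D', ⟨n, e, he⟩, hzD'⟩ := Opens.mem_sSup.1 hz
    exact ⟨n, Euler.stalk_basis_of_frame he hzD'⟩
  have hDmax : ∀ w : Y, (∀ z, z ⤳ w → z = w) → w ∈ D := fun w hw => by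
    obtain ⟨D', n, e, hwD', he⟩ := exists_frame_of_maximal hG hw
    exact Opens.mem_sSup.2 ⟨D', ⟨n, e, he⟩, hwD'⟩
  let P := QCoh.supported G (D : Set Y)ᶜ
  have hP : Coh.IsCoh P.obj := QCoh.supported_isCoh G hG D.2.isClosed_compl
  let Q := cokernel P.ι
  have hQ : Coh.IsCoh Q := QCoh.isCoh_cokernel P.ι hP hG
  haveI := hQ.1
  let p : G ⟶ Q := cokernel.π P.ι
  have hlf : FlatMod.IsFinLocFree Q := isFinLocFree_of_torsionFree hY
    ((AlgSp.topologicalKrullDim_le_of_isIntegralHom π).trans hdim) hQ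
    fun y s hs q hq => torsionFree_quot hY D hD y s hs q hq
  have hpinj : ∀ y ∈ D, Function.Injective (stalkLin p y) := by
    intro y hy
    rw [injective_iff_map_eq_zero]
    intro w hw
    obtain ⟨v, rfl⟩ := (((ShortComplex.ShortExact.moduleCat_exact_iff_function_exact _).1
      ((OX.exact_iff _).1 (ShortComplex.exact_of_g_is_cokernel (ShortComplex.mk P.ι p (cokernel.condition P.ι))
        (cokernelIsCokernel P.ι)) y)) w).1 hw
    obtain ⟨T, hyT, v', rfl⟩ := TopCat.Presheaf.exists_germ_eq P.obj.presheaf v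
    show stalkLin P.ι y (P.obj.presheaf.germ T y hyT v') = 0
    rw [QCoh.stalkLin_germ]
    exact (v' : P.sec T).2 y hyT (fun h => h hy)
  let η := (Scheme.Modules.pullbackPushforwardAdjunction π).unit.app F
  let f : F ⟶ (Scheme.Modules.pushforward π).obj Q := η ≫ (Scheme.Modules.pushforward π).map p
  let U' : X.Opens := ⟨(U : Set X) \ π '' (D : Set Y)ᶜ, U.2.sdiff (π.isClosedMap _ D.2.isClosed_compl)⟩
  have hcomp : ∀ (x : X) v, stalkLin f x v = stalkLin ((Scheme.Modules.pushforward π).map p) x (stalkLin η x v) :=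
    fun x v => QCoh.stalkLin_comp _ _ x v
  have hinjU : ∀ x ∈ U', Function.Injective (stalkLin f x) := by
    intro x hx v v' h
    rw [hcomp, hcomp] at h
    refine (NodePush11.bijective_unit_stalk π U F hx.1).1 (NodePush11.injective_push_map_stalk π p
      (U := U') (fun y hy => hpinj y ?_) hx h)
    by_contra hyD
    exact hy.2 ⟨y, hyD, rfl⟩
  have hmaxU' : ∀ x : X, (∀ z, z ⤳ x → z = x) → x ∈ U' := by
    intro x hx
    refine ⟨AlgSp.mem_of_dense_open U.2 hU x hx, ?_⟩
    rintro ⟨y, hyD, rfl⟩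
    refine hyD (hDmax y fun z hz => ?_)
    exact Japanese.eq_of_specializes_of_isIntegralHom π hz (hx _ (hz.map π.continuous))
  have hclosed : ∀ x : X, x ∉ U' → IsClosed ({x} : Set X) := fun x hx => by
    by_contra hnc
    exact hx (hmaxU' x fun z hz => NodeEt.maximal_of_not_isClosed hdim hnc z hz)
  have hpush : Coh.IsCoh ((Scheme.Modules.pushforward π).obj Q) := ASBun21.isCoh_push_finite π hQ
  have hK : Coh.IsCoh (kernel f) := QCoh.isCoh_kernel f hF hpush
  have hmono : Mono f := by
    refine Preadditive.mono_of_kernel_iso_zero (IsZero.isoZero ?_)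
    by_contra hne
    have h1 := hpure (kernel f) (kernel.ι f) inferInstance hK hne
    have h0 : topologicalKrullDim (CohB1.support (kernel f)) ≤ 0 := dim_support_le_zero hK fun x hx =>
      hclosed x fun hxU => QCoh.notMem_support_kernel_of_injective f (hinjU x hxU) hx
    rw [h1] at h0
    exact absurd h0 (by norm_num)
  refine ⟨Q, f, hQ, hlf, hmono, fun x hx => ?_⟩
  by_contra hxN
  refine hx ?_
  obtain ⟨V, hxV, hV⟩ : ∃ V : X.Opens, x ∈ V ∧ IsIso (π ∣_ V) := by
    by_cases hcl : IsClosed ({x} : Set X)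
    · obtain ⟨V, hxV, hVi, hVn⟩ := hN x hcl hxN
      exact ⟨V, hxV, isIso_restrict_of_normal π U hU hU' V hVn⟩
    · exact ⟨U, AlgSp.mem_of_dense_open U.2 hU x fun z hz => NodeEt.maximal_of_not_isClosed hdim hcl z hz,
        inferInstance⟩
  obtain ⟨A, hA, hxA, -⟩ := exists_isAffineOpen_mem_and_subset (x := x) (U := V) hxV
  obtain ⟨E⟩ := NodePush11.nonempty_cokernel_stalk_equiv f x
  suffices hs : Function.Surjective (stalkLin f x) by
    haveI : Subsingleton (((Scheme.Modules.pushforward π).obj Q).presheaf.stalk x ⧸ LinearMap.range (stalkLin f x)) :=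
      Submodule.Quotient.subsingleton_iff.2 (LinearMap.range_eq_top.2 hs)
    exact E.toEquiv.subsingleton
  intro w
  obtain ⟨w', rfl⟩ := NodePush11.push_map_stalk_surjective π hA hxA p w
  obtain ⟨v, hv⟩ := (NodePush11.bijective_unit_stalk π V F hxV).2 w'
  exact ⟨v, (hcomp x v).trans (congrArg _ hv)⟩

end GrothLib.TFNorm9
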