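import Groth.Agent.Lib.TFCurv11.NodePushMain
import Groth.Agent.Lib.FinCov.FrameFree
import Groth.Agent.Lib.QCoh.Killed
import Groth.Agent.Lib.Rat20Ext.Basic
import Groth.Agent.Lib.Euler.Rank

/-!
# The torsion free quotient on a normal curve is locally free
-/

set_option autoImplicit false
set_option linter.all false
set_option backward.isDefEq.respectTransparency false

universe u

open CategoryTheory CategoryTheory.Limits Opposite AlgebraicGeometry TopologicalSpace
open GrothLib.QCoh (stalkLin)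

noncomputable section

namespace GrothLib.TFNorm9

variable {Y : Scheme.{u}}

theorem ringKrullDim_stalk_le (y : Y) : ringKrullDim (Y.presheaf.stalk y) ≤ topologicalKrullDim Y := by
  rw [← PrimeSpectrum.topologicalKrullDim_eq_ringKrullDim (Y.presheaf.stalk y)]
  exact (Y.fromSpecStalk y).isEmbedding.isInducing.topologicalKrullDim_le

theorem isReduced_of_isDomain_stalk (h : ∀ y : Y, IsDomain (Y.presheaf.stalk y)) :
    AlgebraicGeometry.IsReduced Y :=
  haveI : ∀ y : Y, _root_.IsReduced (Y.presheaf.stalk y) := fun y => haveI := h y; inferInstance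
  AlgebraicGeometry.isReduced_of_isReduced_stalk Y

/-- On an integral open, a germ vanishes at one point iff it vanishes at any other. -/
theorem germ_eq_zero_of_germ {W V : Y.Opens} [IsIntegral (W : Scheme.{u})] (hVW : V ≤ W) (a : Γ(Y, V))
    {z y : Y} (hz : z ∈ V) (hy : y ∈ V) (h : Y.presheaf.germ V z hz a = 0) :
    Y.presheaf.germ V y hy a = 0 := by
  let V' : (W : Scheme.{u}).Opens := W.ι ⁻¹ᵁ V
  have hle : W.ι ''ᵁ V' ≤ V := W.ι.image_preimage_le V
  have hz' : (⟨z, hVW hz⟩ : (W : Scheme.{u})) ∈ V' := hz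
  have hy' : (⟨y, hVW hy⟩ : (W : Scheme.{u})) ∈ V' := hy
  let b : Γ((W : Scheme.{u}), V') := Y.presheaf.map (homOfLE hle).op a
  have key : ∀ (t : W) (ht : t ∈ V'), (W.stalkIso t).hom ((W : Scheme.{u}).presheaf.germ V' t ht b) =
      Y.presheaf.germ V t.1 ht a := fun t ht => by
    rw [← ConcreteCategory.comp_apply, Scheme.Opens.germ_stalkIso_hom W t ht]
    exact TopCat.Presheaf.germ_res_apply Y.presheaf (homOfLE hle) t.1 _ a
  have hb : b = 0 := by
    refine germ_injective_of_isIntegral _ _ hz' ?_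
    rw [map_zero]
    refine (ConcreteCategory.bijective_of_isIso (W.stalkIso ⟨z, hVW hz⟩).hom).1 ?_
    rw [key ⟨z, hVW hz⟩ hz', map_zero]
    exact h
  have := key ⟨y, hVW hy⟩ hy'
  rw [hb, map_zero, map_zero] at this
  exact this.symm

variable [IsLocallyNoetherian Y] (hn : Pi1.IsNormalScheme Y)

/-- The frame locus of a coherent module contains the maximal points of a reduced scheme. -/
theorem exists_frame_of_maximal [AlgebraicGeometry.IsReduced Y] {G : Y.Modules} (hG : Coh.IsCoh G) {w : Y}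
    (hw : ∀ z, z ⤳ w → z = w) :
    ∃ (D : Y.Opens) (n : ℕ) (e : Fin n → Γ(G, D)), w ∈ D ∧ FinCov.IsFrame G D e := by
  letI := (TFCurve11.isField_stalk_of_maximal w hw).toField
  haveI := Euler.stalk_finite hG w
  obtain ⟨D, e, hD, he⟩ := Euler.exists_frame_of_stalk_basis hG
    (Module.finBasis (Y.presheaf.stalk w) (G.presheaf.stalk w))
  exact ⟨D, _, e, hD, he⟩

include hn in
/-- The quotient by the sections supported off a dense open where the module is free is torsion free. -/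
theorem torsionFree_quot {G : Y.Modules} (D : Y.Opens)
    (hD : ∀ z ∈ D, ∃ n : ℕ, Nonempty (Module.Basis (Fin n) (Y.presheaf.stalk z) (G.presheaf.stalk z)))
    (y : Y) (s : Y.presheaf.stalk y) (hs : s ≠ 0)
    (q : (cokernel (QCoh.supported G (D : Set Y)ᶜ).ι).presheaf.stalk y) (hq : s • q = 0) : q = 0 := by
  obtain ⟨P, hP⟩ : ∃ P : QCoh.SubData G, P = QCoh.supported G (D : Set Y)ᶜ := ⟨_, rfl⟩
  subst hP
  let π := cokernel.π (QCoh.supported G (D : Set Y)ᶜ).ι
  obtain ⟨m, hm⟩ := QCoh.stalkLin_surjective π y q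
  rw [← hm, ← map_smul] at hq
  rw [← hm]
  clear hm q
  have hex : ∀ w, stalkLin π y w = 0 ↔ ∃ v, stalkLin (QCoh.supported G (D : Set Y)ᶜ).ι y v = w := fun w =>
    ((ShortComplex.ShortExact.moduleCat_exact_iff_function_exact _).1
      ((OX.exact_iff _).1 (ShortComplex.exact_of_g_is_cokernel (ShortComplex.mk (QCoh.supported G (D : Set Y)ᶜ).ι π (cokernel.condition (QCoh.supported G (D : Set Y)ᶜ).ι))
        (cokernelIsCokernel (QCoh.supported G (D : Set Y)ᶜ).ι)) y)) w
  obtain ⟨v, hv⟩ := (hex _).1 hq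
  refine (hex m).2 ?_
  haveI := (hn y).1
  obtain ⟨W, hyW, hW⟩ := Rat20Ext.exists_integral_nhd y
  obtain ⟨T₁, hyT₁, m', rfl⟩ := TopCat.Presheaf.exists_germ_eq G.presheaf m
  obtain ⟨T₂, hyT₂, s', rfl⟩ := TopCat.Presheaf.exists_germ_eq Y.presheaf s
  obtain ⟨T₃, hyT₃, p, rfl⟩ := TopCat.Presheaf.exists_germ_eq (QCoh.supported G (D : Set Y)ᶜ).obj.presheaf v
  rw [QCoh.stalkLin_germ] at hv
  let T := W ⊓ T₁ ⊓ T₂
  have hyT : y ∈ T := ⟨⟨hyW, hyT₁⟩, hyT₂⟩
  let s₁ : Γ(Y, T) := Y.presheaf.map (homOfLE inf_le_right).op s'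
  let m₁ : Γ(G, T) := G.presheaf.map (homOfLE (inf_le_left.trans inf_le_right)).op m'
  have hs₁ : Y.presheaf.germ T y hyT s₁ = Y.presheaf.germ T₂ y hyT₂ s' :=
    TopCat.Presheaf.germ_res_apply Y.presheaf _ y hyT s'
  have hm₁ : G.presheaf.germ T y hyT m₁ = G.presheaf.germ T₁ y hyT₁ m' :=
    TopCat.Presheaf.germ_res_apply G.presheaf _ y hyT m'
  rw [← hs₁, ← hm₁, ← WeakAss.germ_smul] at hv
  obtain ⟨E, hyE, i, j, heq⟩ := TopCat.Presheaf.germ_eq G.presheaf y hyT₃ hyT _ _ hv
  let mE : Γ(G, E) := G.presheaf.map j.op m₁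
  have hmem : mE ∈ (QCoh.supported G (D : Set Y)ᶜ).sec E := by
    intro z hz hzD
    have hzD' : z ∈ D := not_not.1 hzD
    have h1 : G.presheaf.germ E z hz (G.presheaf.map i.op ((QCoh.supported G (D : Set Y)ᶜ).ι.app T₃ p)) = 0 := by
      rw [QCoh.germ_map]
      exact (p : (QCoh.supported G (D : Set Y)ᶜ).sec T₃).2 z (i.le hz) hzD
    rw [heq, QCoh.germ_map, WeakAss.germ_smul] at h1
    have hne : Y.presheaf.germ T z (j.le hz) s₁ ≠ 0 := fun h0 => hs (hs₁.symm.trans
      (germ_eq_zero_of_germ (W := W) (inf_le_left.trans inf_le_left) s₁ (j.le hz) hyT h0))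
    obtain ⟨n, ⟨b⟩⟩ := hD z hzD'
    haveI := (hn z).1
    haveI := Module.Free.of_basis b
    rw [show G.presheaf.germ E z hz mE = G.presheaf.germ T z (j.le hz) m₁ from QCoh.germ_map G j hz m₁]
    exact (smul_eq_zero.1 h1).resolve_left hne
  refine ⟨(QCoh.supported G (D : Set Y)ᶜ).obj.presheaf.germ E y hyE ⟨mE, hmem⟩, ?_⟩
  rw [QCoh.stalkLin_germ]
  show G.presheaf.germ E y hyE mE = _
  rw [QCoh.germ_map, hm₁]

include hn in
/-- A coherent module with torsion free stalks on a normal curve is locally free. -/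
theorem isFinLocFree_of_torsionFree (hdim : topologicalKrullDim Y ≤ 1) {Q : Y.Modules} (hQ : Coh.IsCoh Q)
    (htf : ∀ (y : Y) (s : Y.presheaf.stalk y), s ≠ 0 → ∀ q : Q.presheaf.stalk y, s • q = 0 → q = 0) :
    FlatMod.IsFinLocFree Q := by
  intro y
  haveI := (hn y).1
  haveI := (hn y).2
  haveI := Euler.stalk_finite hQ y
  haveI : Ring.KrullDimLE 1 (Y.presheaf.stalk y) :=
    Ring.krullDimLE_iff.2 ((ringKrullDim_stalk_le y).trans hdim)
  haveI : Ring.DimensionLEOne (Y.presheaf.stalk y) := ⟨fun {p} h hp => hp.isMaximal_of_ne_bot h⟩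
  haveI : IsDedekindDomain (Y.presheaf.stalk y) := { }
  haveI : IsPrincipalIdealRing (Y.presheaf.stalk y) := inferInstance
  haveI : Module.IsTorsionFree (Y.presheaf.stalk y) (Q.presheaf.stalk y) :=
    ⟨fun r hr a b hab => sub_eq_zero.1 (htf y r hr.ne_zero _ (by
      rw [smul_sub]; exact sub_eq_zero.2 hab))⟩
  obtain ⟨n, b⟩ := Module.basisOfFiniteTypeTorsionFree' (R := Y.presheaf.stalk y) (M := Q.presheaf.stalk y)
  obtain ⟨D, e, hD, he⟩ := Euler.exists_frame_of_stalk_basis hQ b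
  exact ⟨D, n, hD, FinCov.exists_iso_of_frame he⟩

end GrothLib.TFNorm9
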